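import Groth.Agent.Comod.Cosemisimple
import Groth.Prelude.Def_W4c3ghconstell

set_option autoImplicit false
universe u v w x

open TensorProduct W4c3ghconstell

namespace Groth.Agent.GhConst

open Groth.Agent.Comod

section Coalg

variable {k : Type u} [Field k] {A : Type v} [AddCommGroup A] [Module k A] [Coalgebra k A]
variable {M : Type x} [AddCommGroup M] [Module k M] [HopfRep.Comod k A M]

theorem actL_eq_self {D : Submodule k A} {g : A →ₗ[k] k}
    (hg : ∀ d ∈ D, g d = Coalgebra.counit (R := k) d) {v : M} (hv : v ∈ isoComp M D) :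
    actL g v = v := by
  obtain ⟨y, hy⟩ := hv
  have h : g ∘ₗ D.subtype = (Coalgebra.counit (R := k)) ∘ₗ D.subtype :=
    LinearMap.ext fun d => hg d d.2
  rw [actL_apply, ← hy, slR_lTensor, h, ← slR_lTensor, hy, ← actL_apply, actL_counit]

theorem actL_eq_zero {D : Submodule k A} {g : A →ₗ[k] k}
    (hg : ∀ d ∈ D, g d = 0) {v : M} (hv : v ∈ isoComp M D) : actL g v = 0 := by
  obtain ⟨y, hy⟩ := hv
  have h : g ∘ₗ D.subtype = 0 := LinearMap.ext fun d => hg d d.2
  rw [actL_apply, ← hy, slR_lTensor, h]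
  simp [slR]

theorem conv_eq_zero_of_mem {D : Submodule k A} (hD : W4c3ghconstell.IsSubcoalg k A D)
    {φ ψ : A →ₗ[k] k} (hφ : ∀ d ∈ D, φ d = 0) {d : A} (hd : d ∈ D) : conv φ ψ d = 0 := by
  obtain ⟨y, hy⟩ := hD d hd
  simp only [conv, LinearMap.comp_apply, ← hy]
  clear hy
  induction y with
  | zero => simp
  | tmul p q => simp [hφ p p.2]
  | add y z hy hz => simp only [map_add, hy, hz, add_zero]

theorem isSubcomod_isoComp {D : Submodule k A} (hD : W4c3ghconstell.IsSubcoalg k A D) :
    HopfRep.IsSubcomod (k := k) (A := A) (isoComp M D) :=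
  isSubcomod_iff.2 fun φ v hv => by
    refine (mem_range_lTensor_iff_annihilator D.subtype).2 fun ψ hψ => ?_
    rw [← actL_apply, actL_actL]
    refine actL_eq_zero (fun d hd => conv_eq_zero_of_mem hD (fun e he => ?_) hd) hv
    exact LinearMap.congr_fun hψ ⟨e, he⟩

theorem exists_sep (D : SimpSub k A) (s : Finset (SimpSub k A)) (hD : D ∉ s) :
    ∃ g : A →ₗ[k] k, (∀ d ∈ D.1, g d = Coalgebra.counit (R := k) d) ∧
      ∀ E ∈ s, ∀ e ∈ E.1, g e = 0 := by
  have hind : iSupIndep (fun E : SimpSub k A => E.1) :=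
    iSupIndep_simple_subcoalg _ Subtype.val_injective fun E => ⟨E.2.1, E.2.2.1, E.2.2.2⟩
  set q : Submodule k A := ⨆ E ∈ s, E.1 with hq
  have hdis : Disjoint D.1 q :=
    (hind D).mono_right (iSup₂_le fun E hE => le_iSup₂_of_le E (fun h : E = D => hD (h ▸ hE)) le_rfl)
  have hinj : LinearMap.ker (q.mkQ ∘ₗ D.1.subtype) = ⊥ := by
    rw [LinearMap.ker_eq_bot']
    intro d hd
    simp only [LinearMap.comp_apply, Submodule.coe_subtype, Submodule.mkQ_apply,
      Submodule.Quotient.mk_eq_zero] at hd
    exact Subtype.ext (Submodule.disjoint_def.1 hdis _ d.2 hd)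
  obtain ⟨l, hl⟩ := LinearMap.exists_leftInverse_of_injective _ hinj
  refine ⟨(Coalgebra.counit (R := k)) ∘ₗ D.1.subtype ∘ₗ l ∘ₗ q.mkQ, fun d hd => ?_, fun E hE e he => ?_⟩
  · have := LinearMap.congr_fun hl ⟨d, hd⟩
    simp only [LinearMap.comp_apply, Submodule.coe_subtype, LinearMap.id_apply] at this
    change (Coalgebra.counit (R := k)) ((l (q.mkQ d) : D.1) : A) = _
    exact congrArg (fun e : D.1 => Coalgebra.counit (R := k) (e : A)) this
  · have : q.mkQ e = 0 := by
      rw [Submodule.mkQ_apply, Submodule.Quotient.mk_eq_zero]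
      exact le_iSup₂ (f := fun (E : SimpSub k A) (_ : E ∈ s) => E.1) E hE he
    simp only [LinearMap.comp_apply, this, map_zero]

/-- a nonzero subcomodule of a sum of isotypic components meets one of them -/
theorem exists_inf_isoComp_ne_bot (htop : (⨆ D : SimpSub k A, isoComp M D.1) = ⊤)
    {N : Submodule k M} (hN : HopfRep.IsSubcomod (k := k) (A := A) N) (hN0 : N ≠ ⊥) :
    ∃ D : SimpSub k A, N ⊓ isoComp M D.1 ≠ ⊥ := by
  classical
  obtain ⟨v, hv, hv0⟩ := N.ne_bot_iff.1 hN0
  obtain ⟨s, hs⟩ := Submodule.mem_iSup_iff_exists_finset.1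
    (show v ∈ ⨆ D : SimpSub k A, isoComp M D.1 by rw [htop]; trivial)
  by_contra hcon
  push Not at hcon
  suffices H : ∀ (s : Finset (SimpSub k A)) (v : M), v ∈ N →
      v ∈ ⨆ D ∈ s, isoComp M D.1 → v = 0 from hv0 (H s v hv hs)
  intro s
  induction s using Finset.induction with
  | empty => intro v _ h; simpa using h
  | @insert D s hD ih =>
    intro v hv h
    rw [Finset.iSup_insert, Submodule.mem_sup] at h
    obtain ⟨a, ha, b, hb, rfl⟩ := h
    obtain ⟨g, hg1, hg0⟩ := exists_sep D s hD
    have hb0 : actL g b = 0 := by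
      have : (⨆ E ∈ s, isoComp M E.1) ≤ LinearMap.ker (actL (V := M) g) :=
        iSup₂_le fun E hE x hx => actL_eq_zero (hg0 E hE) hx
      exact this hb
    have haN : a ∈ N := by
      have := IsSubcomod.actL_mem hN g hv
      rwa [map_add, actL_eq_self hg1 ha, hb0, add_zero] at this
    have ha0 : a = 0 := by
      have : a ∈ N ⊓ isoComp M D.1 := ⟨haN, ha⟩
      rwa [hcon D, Submodule.mem_bot] at this
    subst ha0
    rw [zero_add] at hv ⊢
    exact ih b hv hb

end Coalg

section Hopf

variable {k : Type u} [Field k] {A : Type v} [CommRing A] [HopfAlgebra k A]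
variable {R : Type w} [CommRing R] [Algebra k R] [HopfRep.Comod k A R]
variable {M : Type x} [AddCommGroup M] [Module k M] [Module R M] [IsScalarTower k R M]
  [HopfRep.Comod k A M] [TameAct.IsHopfMod k A R M]

theorem isSubcomod_span {W : Submodule k M} (hW : HopfRep.IsSubcomod (k := k) (A := A) W) :
    HopfRep.IsSubcomod (k := k) (A := A) ((Submodule.span R (W : Set M)).restrictScalars k) := by
  intro v hv
  rw [Submodule.restrictScalars_mem] at hv
  induction hv using Submodule.span_induction with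
  | mem x hx =>
    obtain ⟨y, hy⟩ := hW x hx
    rw [← hy]
    clear hy
    induction y with
    | zero => simp
    | tmul p a => exact ⟨(⟨p, Submodule.subset_span p.2⟩ :
        (Submodule.span R (W : Set M)).restrictScalars k) ⊗ₜ a, rfl⟩
    | add y z hy hz => rw [map_add]; exact add_mem hy hz
  | zero => simp
  | add x y _ _ hx hy => rw [map_add]; exact add_mem hx hy
  | smul r x _ hx =>
    rw [TameAct.IsHopfMod.coact_smul]
    obtain ⟨y, hy⟩ := hx
    rw [← hy]
    clear hy
    generalize HopfRep.Comod.coact (k := k) (A := A) r = z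
    induction z with
    | zero => simp
    | add z z' hz hz' => rw [map_add, LinearMap.add_apply]; exact add_mem hz hz'
    | tmul b c =>
      induction y with
      | zero => simp
      | add y y' hy hy' => rw [map_add, map_add]; exact add_mem hy hy'
      | tmul p a =>
        rw [LinearMap.rTensor_tmul, TameAct.hmSMul_tmul]
        exact ⟨(⟨b • (p : M), Submodule.smul_mem _ b p.2⟩ :
          (Submodule.span R (W : Set M)).restrictScalars k) ⊗ₜ (c * a), rfl⟩

variable (k A R M) in
theorem genIn_le (S : Set (SimpSub k A)) (N : Submodule R M) : genIn k A R M S N ≤ N := by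
  refine Submodule.span_le.2 ?_
  simp only [Set.iUnion_subset_iff]
  exact fun D _ x hx => hx.1

theorem inf_isoComp_le_genIn {S : Set (SimpSub k A)} (N : Submodule R M) {D : SimpSub k A}
    (hD : D ∈ S) :
    N.restrictScalars k ⊓ isoComp M D.1 ≤ (genIn k A R M S N).restrictScalars k :=
  fun _ hx => Submodule.subset_span (Set.mem_biUnion hD hx)

theorem genIn_inf_eq {S : Set (SimpSub k A)} (N : Submodule R M) {D : SimpSub k A} (hD : D ∈ S) :
    (genIn k A R M S N).restrictScalars k ⊓ isoComp M D.1 = N.restrictScalars k ⊓ isoComp M D.1 :=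
  le_antisymm (inf_le_inf_right _ (fun _ hx => genIn_le k A R M S N hx))
    (le_inf (inf_isoComp_le_genIn N hD) inf_le_right)

theorem genIn_genIn (S : Set (SimpSub k A)) (N : Submodule R M) :
    genIn k A R M S (genIn k A R M S N) = genIn k A R M S N := by
  refine le_antisymm (genIn_le k A R M S _) (Submodule.span_le.2 ?_)
  simp only [Set.iUnion_subset_iff]
  intro D hD x hx
  rw [← genIn_inf_eq N hD] at hx
  exact Submodule.subset_span (Set.mem_biUnion hD hx)

theorem isSubcomod_genIn (S : Set (SimpSub k A)) {N : Submodule R M}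
    (hN : HopfRep.IsSubcomod (k := k) (A := A) (N.restrictScalars k)) :
    HopfRep.IsSubcomod (k := k) (A := A) ((genIn k A R M S N).restrictScalars k) := by
  have h : genIn k A R M S N = Submodule.span R
      ((⨆ D : S, N.restrictScalars k ⊓ isoComp M D.1.1 : Submodule k M) : Set M) := by
    apply le_antisymm
    · refine Submodule.span_mono ?_
      simp only [Set.iUnion_subset_iff]
      exact fun D hD x hx => Submodule.mem_iSup_of_mem (⟨D, hD⟩ : S) hx
    · refine Submodule.span_le.2 ?_
      exact (iSup_le fun D : S => inf_isoComp_le_genIn N D.2 :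
        (⨆ D : S, N.restrictScalars k ⊓ isoComp M D.1.1) ≤ (genIn k A R M S N).restrictScalars k)
  rw [h]
  refine isSubcomod_span (isSubcomod_iSup fun D => isSubcomod_iff.2 fun φ x hx => ?_)
  exact ⟨IsSubcomod.actL_mem hN φ hx.1, IsSubcomod.actL_mem (isSubcomod_isoComp D.1.2.2.1) φ hx.2⟩

theorem isSubcomod_top : HopfRep.IsSubcomod (k := k) (A := A) ((⊤ : Submodule R M).restrictScalars k) :=
  isSubcomod_iff.2 fun _ _ _ => trivial

end Hopf

section Theta

variable {k : Type u} [Field k] {A : Type v} [AddCommGroup A] [Module k A] [Coalgebra k A]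
variable {M : Type x} [AddCommGroup M] [Module k M] [HopfRep.Comod k A M]
variable {h : SimpSub k A → ℕ} {θ : SimpSub k A → ℚ}
  (hfd : ∀ D : SimpSub k A, Module.Finite k ↥(isoComp M D.1) ∧ Module.finrank k ↥(isoComp M D.1) = h D)

include hfd

theorem hilbAt_top (D : SimpSub k A) : hilbAt M (⊤ : Submodule k M) D = h D := by
  rw [hilbAt, top_inf_eq, (hfd D).2]

theorem hilbAt_le (N : Submodule k M) (D : SimpSub k A) : hilbAt M N D ≤ h D := by
  haveI := (hfd D).1
  rw [← (hfd D).2]
  exact Submodule.finrank_mono inf_le_right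

theorem hilbAt_mono {N N' : Submodule k M} (hle : N ≤ N') (D : SimpSub k A) :
    hilbAt M N D ≤ hilbAt M N' D := by
  haveI := (hfd D).1
  haveI : Module.Finite k ↥(N' ⊓ isoComp M D.1) := Submodule.finiteDimensional_of_le inf_le_right
  exact Submodule.finrank_mono (inf_le_inf_right _ hle)

theorem hilbAt_eq_zero_iff {N : Submodule k M} {D : SimpSub k A} :
    hilbAt M N D = 0 ↔ N ⊓ isoComp M D.1 = ⊥ := by
  haveI := (hfd D).1
  haveI : Module.Finite k ↥(N ⊓ isoComp M D.1) := Submodule.finiteDimensional_of_le inf_le_right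
  exact Submodule.finrank_eq_zero

theorem isoComp_le_of_hilbAt_eq {N : Submodule k M} {D : SimpSub k A} (he : hilbAt M N D = h D) :
    isoComp M D.1 ≤ N := by
  haveI := (hfd D).1
  have := Submodule.eq_of_le_of_finrank_le (inf_le_right : N ⊓ isoComp M D.1 ≤ isoComp M D.1)
    (by rw [(hfd D).2]; exact he.ge)
  exact this ▸ inf_le_left

theorem summable_theta (hs : Summable fun D => (θ D : ℝ) * (h D : ℝ)) (N : Submodule k M) :
    Summable fun D => (θ D : ℝ) * (hilbAt M N D : ℝ) := by
  refine Summable.of_norm_bounded hs.norm fun D => ?_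
  simp only [norm_mul, Real.norm_natCast]
  exact mul_le_mul_of_nonneg_left (Nat.cast_le.2 (hilbAt_le hfd N D)) (norm_nonneg _)

theorem theta_le (hs : Summable fun D => (θ D : ℝ) * (h D : ℝ)) {N N' : Submodule k M} (hle : N ≤ N')
    (hneg : ∀ D, θ D < 0 → hilbAt M N D = hilbAt M N' D) : theta M θ N ≤ theta M θ N' := by
  refine (summable_theta hfd hs N).tsum_le_tsum (fun D => ?_) (summable_theta hfd hs N')
  by_cases hD : θ D < 0
  · rw [hneg D hD]
  · exact mul_le_mul_of_nonneg_left (Nat.cast_le.2 (hilbAt_mono hfd hle D))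
      (by exact_mod_cast not_lt.1 hD)

theorem theta_top (hs : HasSum (fun D => (θ D : ℝ) * (h D : ℝ)) 0) :
    theta M θ (⊤ : Submodule k M) = 0 := by
  simp only [theta, hilbAt_top hfd]
  exact hs.tsum_eq

/-- a subcomodule without parts of negative weight has positive weight -/
theorem theta_pos (htop : (⨆ D : SimpSub k A, isoComp M D.1) = ⊤)
    (hs : Summable fun D => (θ D : ℝ) * (h D : ℝ)) (hθ : ∀ D, h D ≠ 0 → θ D ≠ 0)
    {N : Submodule k M} (hN : HopfRep.IsSubcomod (k := k) (A := A) N) (hN0 : N ≠ ⊥)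
    (hneg : ∀ D, θ D < 0 → hilbAt M N D = 0) : 0 < theta M θ N := by
  obtain ⟨D, hD⟩ := exists_inf_isoComp_ne_bot htop hN hN0
  have h1 : hilbAt M N D ≠ 0 := fun e => hD ((hilbAt_eq_zero_iff hfd).1 e)
  have h2 : 0 < θ D := lt_of_le_of_ne (not_lt.1 fun e => h1 (hneg D e))
    (Ne.symm (hθ D fun e => h1 (Nat.le_zero.1 (e ▸ hilbAt_le hfd N D))))
  refine (summable_theta hfd hs N).tsum_pos (fun E => ?_) D ?_
  · by_cases hE : θ E < 0
    · simp [hneg E hE]
    · exact mul_nonneg (by exact_mod_cast not_lt.1 hE) (Nat.cast_nonneg _)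
  · exact mul_pos (by exact_mod_cast h2) (by exact_mod_cast Nat.pos_of_ne_zero h1)

end Theta

theorem theta_bot {k : Type u} [Field k] {A : Type v} [AddCommGroup A] [Module k A] [Coalgebra k A]
    {M : Type x} [AddCommGroup M] [Module k M] [HopfRep.Comod k A M] (θ : SimpSub k A → ℚ) :
    theta M θ (⊥ : Submodule k M) = 0 := by
  have h : ∀ D : SimpSub k A, hilbAt M (⊥ : Submodule k M) D = 0 := fun D => by
    rw [hilbAt, bot_inf_eq]; exact finrank_bot k M
  simp [theta, h]

end Groth.Agent.GhConst
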